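import Mathlib
import Groth.Agent.QCoh.RpushModel
import Groth.Agent.QCoh.CechStd
import Groth.Agent.InvX.GenEpi
import Groth.Agent.RatUp.Sections

/-!
# The support of the first direct image of a birational morphism of surfaces
-/

set_option autoImplicit false
set_option linter.style.haveILetI false
set_option linter.unusedSectionVars false
set_option backward.isDefEq.respectTransparency false
set_option backward.isDefEq.respectTransparency.types false
set_option maxHeartbeats 400000

universe u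

open CategoryTheory CategoryTheory.Limits AlgebraicGeometry TopologicalSpace Opposite

noncomputable section

namespace Groth.Agent.R1Push

/-- The bad locus of a modification of a normal surface. -/
theorem finite_bad {X Y : Scheme.{u}} [IsIntegral X] [IsIntegral Y] [IsNoetherian Y]
    (hn : Pi1.IsNormalScheme Y) (hd : ∀ y : Y, ringKrullDim (Y.presheaf.stalk y) ≤ 2)
    (f : X ⟶ Y) [IsProper f] (hbir : IsIso (f.stalkMap (genericPoint X))) :
    (f '' {w | ¬ IsIso (f.stalkMap w)}).Finite ∧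
      ∀ z ∈ f '' {w | ¬ IsIso (f.stalkMap w)}, IsClosed ({z} : Set Y) := by
  have hcl : IsClosed {w : X | ¬ IsIso (f.stalkMap w)} := by
    rw [← isOpen_compl_iff, isOpen_iff_forall_mem_open]
    intro w hw
    obtain ⟨W, hwW, hOI⟩ := PurBir.exists_isOpenImmersion_of_isIso_stalkMap f (not_not.1 hw)
    haveI := hOI
    exact ⟨W, fun y hy h => h (PurBir.isIso_stalkMap_of_mem f (W := W) hy), W.isOpen, hwW⟩
  have hpt : ∀ z ∈ f '' {w | ¬ IsIso (f.stalkMap w)}, IsClosed ({z} : Set Y) := by
    rintro _ ⟨w, hw, rfl⟩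
    exact SurfSeq.closed_two hd (SurfSeq.eq_two (hd _) fun h1 =>
      hw (RatUp.isIso_of_dim_le_one_normal f hbir w (hn _).2 h1))
  exact ⟨PointBlow.finite_of_closed_points (f.isClosedMap _ hcl) hpt, hpt⟩

variable {X : Scheme.{u}}

/-- Germs of modules with finitely many closed points as support come from global sections. -/
theorem germ_top_surjective (M : X.Modules) (S : Set X) (hS : S.Finite)
    (hcl : ∀ s ∈ S, IsClosed ({s} : Set X)) (h0 : ∀ x ∉ S, Subsingleton (M.presheaf.stalk x)) (x : X)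
    (m : M.presheaf.stalk x) : ∃ g : Γ(M, ⊤), M.presheaf.germ ⊤ x trivial g = m := by
  by_cases hx : x ∈ S
  swap
  · exact ⟨0, (h0 x hx).elim _ _⟩
  obtain ⟨V, hxV, v, rfl⟩ := TopCat.Presheaf.exists_germ_eq (C := AddCommGrpCat.{u}) M.presheaf (x := x) m
  have hc : IsClosed (S \ {x}) := by
    rw [← Set.biUnion_of_singleton (S \ {x})]
    exact hS.sdiff.isClosed_biUnion fun s hs => hcl s hs.1
  let W : X.Opens := V ⊓ ⟨(S \ {x})ᶜ, hc.isOpen_compl⟩
  let C : X.Opens := ⟨{x}ᶜ, (hcl x hx).isOpen_compl⟩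
  let U : Bool → X.Opens := fun b => bif b then W else C
  let w : Γ(M, W) := M.presheaf.map (homOfLE (inf_le_left : W ≤ V)).op v
  let sf : ∀ b, Γ(M, U b) := fun b => Bool.rec (motive := fun b => Γ(M, U b)) 0 w b
  have hker : ∀ (p : X) (hp : p ∈ W), p ≠ x → M.presheaf.germ W p hp w = 0 := fun p hp hne =>
    (h0 p fun hps => hp.2 ⟨hps, hne⟩).elim _ _
  let F : TopCat.Sheaf AddCommGrpCat.{u} X := (SheafOfModules.toSheaf X.ringCatSheaf).obj M
  have hcompat : TopCat.Presheaf.IsCompatible M.presheaf U sf := by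
    intro a b
    apply TopCat.Presheaf.section_ext F
    intro p hp
    have hp' : p ∈ U a ⊓ U b := hp
    erw [M.presheaf.germ_res_apply, M.presheaf.germ_res_apply]
    cases a <;> cases b
    · rfl
    · show M.presheaf.germ _ p hp'.1 (0 : Γ(M, U false)) = M.presheaf.germ W p hp'.2 w
      rw [map_zero, hker p hp'.2 hp'.1]
    · show M.presheaf.germ W p hp'.1 w = M.presheaf.germ _ p hp'.2 (0 : Γ(M, U false))
      rw [map_zero, hker p hp'.1 hp'.2]
    · rfl
  obtain ⟨σ, hσ, -⟩ := TopCat.Sheaf.existsUnique_gluing' F U ⊤ (fun b => homOfLE le_top)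
    (fun p _ => Opens.mem_iSup.2 (by
      by_cases hp : p = x
      · exact ⟨true, show p ∈ W from hp ▸ ⟨hxV, fun h => h.2 rfl⟩⟩
      · exact ⟨false, show p ∈ ({x}ᶜ : Set X) from hp⟩)) sf hcompat
  have hxW : x ∈ W := ⟨hxV, fun h => h.2 rfl⟩
  refine ⟨σ, Eq.trans (M.presheaf.germ_res_apply (homOfLE (le_top : U true ≤ ⊤)) x hxW σ).symm ?_⟩
  refine (congrArg (M.presheaf.germ (U true) x hxW) (hσ true)).trans ?_
  exact M.presheaf.germ_res_apply (homOfLE (inf_le_left : W ≤ V)) x hxW v

/-- A module with finitely many closed points as support is generated by global sections. -/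
theorem isGloballyGenerated_of_finite_support (M : X.Modules) (S : Set X) (hS : S.Finite)
    (hcl : ∀ s ∈ S, IsClosed ({s} : Set X)) (h0 : ∀ x ∉ S, Subsingleton (M.presheaf.stalk x)) :
    Curv2.IsGloballyGenerated M := by
  refine InvX.isGloballyGenerated_of_generated (s := fun g : Γ(M, ⊤) => g) fun x => eq_top_iff.2 fun m _ => ?_
  obtain ⟨g, rfl⟩ := germ_top_surjective M S hS hcl h0 x m
  exact Submodule.subset_span ⟨g, rfl⟩

theorem subsingleton_stalk_of_sections (M : X.Modules) [Subsingleton Γ(M, ⊤)] (S : Set X) (hS : S.Finite)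
    (hcl : ∀ s ∈ S, IsClosed ({s} : Set X)) (h0 : ∀ x ∉ S, Subsingleton (M.presheaf.stalk x)) (x : X) :
    Subsingleton (M.presheaf.stalk x) := by
  refine subsingleton_of_forall_eq 0 fun m => ?_
  obtain ⟨g, rfl⟩ := germ_top_surjective M S hS hcl h0 x m
  rw [Subsingleton.elim g 0]
  exact map_zero _

/-- Direct images vanish where the morphism is an isomorphism. -/
theorem subsingleton_stalk_of_isIso {W : Scheme.{u}} (g : W ⟶ X) [QuasiCompact g] [QuasiSeparated g]
    [HasInjectiveResolutions W.Modules] (U : X.Opens) [IsIso (g ∣_ U)] {x : X} (hx : x ∈ U) (n : ℕ) :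
    Subsingleton (((Coh.Rpush g (n + 1)).obj (Coh.structureModule W)).presheaf.stalk x) := by
  let R := (Coh.Rpush g (n + 1)).obj (Coh.structureModule W)
  refine subsingleton_of_forall_eq 0 fun m => ?_
  obtain ⟨V, hxV, v, rfl⟩ := TopCat.Presheaf.exists_germ_eq (C := AddCommGrpCat.{u}) R.presheaf (x := x) m
  obtain ⟨D, hD, hxD, hDle⟩ := exists_isAffineOpen_mem_and_subset (x := x) (U := V ⊓ U) ⟨hxV, hx⟩
  have hle : D ≤ V := fun y hy => (hDle hy).1
  haveI : IsIso (g ∣_ D) := PointBlow.isIso_restrict_mono g (fun y hy => (hDle hy).2 : D ≤ U)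
  haveI : IsAffine (D : Scheme.{u}) := hD
  haveI : IsAffine (g ⁻¹ᵁ D : Scheme.{u}) := IsAffine.of_isIso (g ∣_ D)
  haveI := QCoh.subsingleton_HH_of_isAffine
    (QCoh.isQCoh_restrict (g ⁻¹ᵁ D).ι (QCoh.isQCoh_structureModule (X := W))) n
  obtain ⟨e⟩ := QCoh.nonempty_sections_HH (f := g) (QCoh.isQCoh_structureModule (X := W)) hD (n + 1)
  rw [← R.presheaf.germ_res_apply (homOfLE hle) x hxD v]
  haveI : Subsingleton Γ(R, D) := e.toEquiv.subsingleton
  rw [Subsingleton.elim (α := Γ(R, D)) (R.presheaf.map (homOfLE hle).op v) 0]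
  exact map_zero _

end Groth.Agent.R1Push
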