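import Mathlib
import Groth.Agent.Lib.LerayOneDegree
import Groth.Agent.QCoh.HHExact

/-!
# Lengths in the exact sequence of low degree
-/

set_option autoImplicit false
set_option linter.style.haveILetI false
set_option linter.unusedSectionVars false
set_option backward.isDefEq.respectTransparency false
set_option backward.isDefEq.respectTransparency.types false
set_option maxHeartbeats 1000000

universe u

open CategoryTheory CategoryTheory.Limits AlgebraicGeometry TopologicalSpace Opposite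

noncomputable section

namespace Groth.Agent.R1Push

open Groth.Agent.QCoh Groth.Agent.LerayOneDegree

/-- Additivity of lengths from two descriptions of quotients. -/
theorem length_eq_add {R B N H H' C : Type u} [CommRing R] [AddCommGroup B] [Module R B] [AddCommGroup N] [Module R N]
    [AddCommGroup H] [Module R H] [AddCommGroup H'] [Module R H'] [AddCommGroup C] [Module R C]
    (δ : B →ₗ[R] H) (i : B →ₗ[R] N) (θ : N →ₗ[R] H') (p : N →ₗ[R] C)
    (hδ : Function.Surjective δ) (hθ : Function.Surjective θ) (hp : Function.Surjective p)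
    (hpi : ∀ n, p n = 0 ↔ ∃ b, i b = n) (hθi : ∀ b, θ (i b) = 0 ↔ δ b = 0)
    (hker : ∀ n, θ n = 0 → ∃ b, i b = n) : Module.length R H' = Module.length R H + Module.length R C := by
  have hk : LinearMap.ker θ ≤ LinearMap.ker p := fun n hn =>
    LinearMap.mem_ker.2 ((hpi n).2 (hker n (LinearMap.mem_ker.1 hn)))
  let ψ : H' →ₗ[R] C := (Submodule.liftQ _ p hk).comp (θ.quotKerEquivOfSurjective hθ).symm.toLinearMap
  have hψ : ∀ n, ψ (θ n) = p n := fun n => by
    simp only [ψ, LinearMap.comp_apply, LinearEquiv.coe_toLinearMap]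
    rw [show (θ.quotKerEquivOfSurjective hθ).symm (θ n) = Submodule.Quotient.mk n from
      (LinearEquiv.symm_apply_eq _).2 rfl]
    rfl
  let φ : H →ₗ[R] H' :=
    (Submodule.liftQ _ (θ.comp i) (fun b hb => LinearMap.mem_ker.2 ((hθi b).2 (LinearMap.mem_ker.1 hb)))).comp
      (δ.quotKerEquivOfSurjective hδ).symm.toLinearMap
  have hφ : ∀ b, φ (δ b) = θ (i b) := fun b => by
    simp only [φ, LinearMap.comp_apply, LinearEquiv.coe_toLinearMap]
    rw [show (δ.quotKerEquivOfSurjective hδ).symm (δ b) = Submodule.Quotient.mk b from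
      (LinearEquiv.symm_apply_eq _).2 rfl]
    rfl
  refine Module.length_eq_add_of_exact φ ψ ((injective_iff_map_eq_zero φ).2 fun h hh => ?_)
    (fun c => ?_) (fun h => ?_)
  · obtain ⟨b, rfl⟩ := hδ h
    exact (hθi b).1 ((hφ b).symm.trans hh)
  · obtain ⟨n, rfl⟩ := hp c
    exact ⟨θ n, hψ n⟩
  · constructor
    · intro hh
      obtain ⟨n, rfl⟩ := hθ h
      obtain ⟨b, rfl⟩ := (hpi n).1 ((hψ n).symm.trans hh)
      exact ⟨δ b, hφ b⟩
    · rintro ⟨a, rfl⟩
      obtain ⟨b, rfl⟩ := hδ a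
      rw [hφ, hψ]
      exact (hpi _).2 ⟨b, rfl⟩

variable {W Z : Scheme.{u}} (g : W ⟶ Z) [HasInjectiveResolutions W.Modules] {A : Type u} [CommRing A]
  (ρ : A →+* Coh.Γtop Z)

/-- Sections with scalars from `A`. -/
def secLin {M N : Z.Modules} (φ : M ⟶ N) :
    letI := secModule ρ M ⊤
    letI := secModule ρ N ⊤
    Γ(M, ⊤) →ₗ[A] Γ(N, ⊤) :=
  letI := secModule ρ M ⊤
  letI := secModule ρ N ⊤
  { toFun := φ.app ⊤
    map_add' := map_add _
    map_smul' := fun a x => (appLin φ ⊤).map_smul _ x }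

/-- The exact sequence of low degree, by lengths. -/
theorem length_add (M : W.Modules) (h2 : Subsingleton (Coh.HH Z ((Scheme.Modules.pushforward g).obj M) 2)) :
    letI := modHH ρ ((Scheme.Modules.pushforward g).obj M) 1
    letI := modHH (g.appTop.hom.comp ρ) M 1
    letI := modHH ρ ((Coh.Rpush g 1).obj M) 0
    Module.length A (Coh.HH W M 1) = Module.length A (Coh.HH Z ((Scheme.Modules.pushforward g).obj M) 1) +
      Module.length A (Coh.HH Z ((Coh.Rpush g 1).obj M) 0) := by
  haveI := QCoh.preservesFiniteLimits_push g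
  let P₀ := LerayCorner.Z g M 0
  let B := LerayCorner.B g M 0
  let P₁ := LerayCorner.Z g M 1
  let incl : B ⟶ P₁ := LerayCorner.incl g M 0
  have hS₁ := LerayCorner.shortExact_one g M 0
  have hS₂ := LerayCorner.shortExact_two g M 0
  obtain ⟨e⟩ := LerayCorner.nonempty_cokernel_incl g M 0
  letI := modHH ρ ((Scheme.Modules.pushforward g).obj M) 1
  letI := modHH (g.appTop.hom.comp ρ) M 1
  letI := modHH ρ ((Coh.Rpush g 1).obj M) 0
  letI := secModule ρ B ⊤
  letI := secModule ρ P₁ ⊤
  letI := secModule ρ ((Coh.Rpush g 1).obj M) ⊤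
  letI := secModule (g.appTop.hom.comp ρ) (godQ M 1) ⊤
  letI := modHH ρ B 0
  obtain ⟨a, ha, hker⟩ := exists_classMap (g.appTop.hom.comp ρ) M 1
  let θ : Γ(P₁, ⊤) →ₗ[A] Coh.HH W M 1 :=
    { toFun := fun z => a (show Γ(godQ M 1, ⊤) from z)
      map_add' := fun z w => map_add a _ _
      map_smul' := fun r z => by
        refine Eq.trans (congrArg a ?_) (map_smul a r (show Γ(godQ M 1, ⊤) from z))
        show (show Γ(W, ⊤) from (g.app ⊤).hom ((Z.presheaf.map (homOfLE (le_top : (⊤ : Z.Opens) ≤ ⊤)).op).hom (ρ r))) •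
            (show Γ(godQ M 1, ⊤) from z) =
          (W.presheaf.map (homOfLE (le_top : (⊤ : W.Opens) ≤ ⊤)).op).hom (g.appTop.hom (ρ r)) •
            (show Γ(godQ M 1, ⊤) from z)
        rw [show (homOfLE (le_top : (⊤ : W.Opens) ≤ ⊤)).op = 𝟙 (op (⊤ : W.Opens)) from rfl, W.presheaf.map_id,
          show (homOfLE (le_top : (⊤ : Z.Opens) ≤ ⊤)).op = 𝟙 (op (⊤ : Z.Opens)) from rfl, Z.presheaf.map_id]
        rfl }
  let δ : Γ(B, ⊤) →ₗ[A] Coh.HH Z ((Scheme.Modules.pushforward g).obj M) 1 :=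
    (connLin ρ hS₁ 0).comp (secH ρ B).toLinearMap
  have hB1 : Subsingleton (Coh.HH Z B 1) :=
    LerayCorner.subsingleton_HH_X₃ hS₁ 1 (LerayCorner.subsingleton_HH_God_push g M 0 0) h2
  have hsurj : Function.Surjective ((cokernel.π incl).app ⊤) := QCoh.app_top_surjective_of_HH_one hS₂ hB1
  have hinj : Function.Injective (incl.app ⊤) := app_f_injective hS₂ ⊤
  have hα : ∀ b : Γ((Scheme.Modules.pushforward g).obj (God (godQ M 0)), ⊤),
      incl.app ⊤ ((cokernel.π ((Scheme.Modules.pushforward g).map (toGod (godQ M 0)))).app ⊤ b) =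
        (godπ M 0).app ⊤ b := fun b =>
    congr($(congrArg (fun φ => Scheme.Modules.Hom.app φ ⊤)
      (cokernel.π_desc ((Scheme.Modules.pushforward g).map (toGod (godQ M 0)))
        ((Scheme.Modules.pushforward g).map (godπ M 0)) (LerayCorner.comp_eq_zero g M 0))) b)
  have hδ0 : ∀ b : Γ(B, ⊤), δ b = 0 ↔
      ∃ c, (cokernel.π ((Scheme.Modules.pushforward g).map (toGod (godQ M 0)))).app ⊤ c = b := by
    intro b
    let T₂ := Coh.toAb ((Scheme.Modules.pushforward g).obj (God (godQ M 0)))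
    refine (Ab.connecting_eq_zero_iff (X := Z.toPresheafedSpace.carrier) (toAb_shortExact hS₁) 0 _).trans ⟨?_, ?_⟩
    · rintro ⟨y, hy⟩
      refine ⟨Sheaf.H.equiv₀ T₂ isTerminalTop y, ?_⟩
      refine (Sheaf.H.equiv₀_naturality isTerminalTop ((ShortComplex.mk _ _ (cokernel.condition
        ((Scheme.Modules.pushforward g).map (toGod (godQ M 0))))).map (toAbFunctor Z)).g y).trans ?_
      exact (congrArg (Sheaf.H.equiv₀ (Coh.toAb B) isTerminalTop) hy).trans
        ((Sheaf.H.equiv₀ (Coh.toAb B) isTerminalTop).apply_symm_apply b)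
    · rintro ⟨c, hc⟩
      refine ⟨(Sheaf.H.equiv₀ T₂ isTerminalTop).symm c, (Sheaf.H.equiv₀ (Coh.toAb B) isTerminalTop).injective ?_⟩
      refine (Sheaf.H.equiv₀_naturality isTerminalTop ((ShortComplex.mk _ _ (cokernel.condition
        ((Scheme.Modules.pushforward g).map (toGod (godQ M 0))))).map (toAbFunctor Z)).g _).symm.trans ?_
      refine (congrArg _ ((Sheaf.H.equiv₀ T₂ isTerminalTop).apply_symm_apply c)).trans ?_
      exact hc.trans ((Sheaf.H.equiv₀ (Coh.toAb B) isTerminalTop).apply_symm_apply b).symm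
  let p : Γ(P₁, ⊤) →ₗ[A] Coh.HH Z ((Coh.Rpush g 1).obj M) 0 :=
    (secH ρ ((Coh.Rpush g 1).obj M)).toLinearMap.comp (secLin ρ (cokernel.π incl ≫ e.hom))
  refine length_eq_add δ (secLin ρ incl) θ p
    ((Ab.connecting_surjective (X := Z.toPresheafedSpace.carrier) (toAb_shortExact hS₁) 0
      (LerayCorner.subsingleton_HH_God_push g M 0 0)).comp (secH ρ B).surjective)
    ha ((secH ρ _).surjective.comp ((ConcreteCategory.bijective_of_isIso (e.hom.app ⊤)).2.comp hsurj))
    (fun n => ?_) (fun b => ?_) fun n hn => ?_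
  · refine ((secH ρ _).map_eq_zero_iff).trans ?_
    constructor
    · intro hn
      refine exists_app_f_eq hS₂ ⊤ n ((ConcreteCategory.bijective_of_isIso (e.hom.app ⊤)).1 ?_)
      exact hn.trans (map_zero _).symm
    · rintro ⟨b, rfl⟩
      show e.hom.app ⊤ ((cokernel.π incl).app ⊤ (incl.app ⊤ b)) = 0
      rw [show (cokernel.π incl).app ⊤ (incl.app ⊤ b) = 0 from
        app_g_f (S := ShortComplex.mk incl (cokernel.π incl) (cokernel.condition _)) ⊤ b]
      exact map_zero _
  · refine ((hker _).trans ?_).trans (hδ0 b).symm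
    constructor
    · rintro ⟨c, hc⟩
      exact ⟨c, hinj ((hα c).trans hc)⟩
    · rintro ⟨c, rfl⟩
      exact ⟨c, (hα c).symm⟩
  · obtain ⟨c, hc⟩ := (hker _).1 hn
    exact ⟨_, (hα c).trans hc⟩

end Groth.Agent.R1Push
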