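import Mathlib
import Groth.Agent.R1Push.Support
import Groth.Agent.R1Push.Leray
import Groth.Agent.H26.Contract
import Groth.Agent.RelPC17.HighVanish
import Groth.Agent.RelPC17.BirFibre
import Groth.Agent.Sol.Regular

/-!
# The first direct image between modifications of a normal surface germ
-/

set_option autoImplicit false
set_option linter.style.haveILetI false
set_option linter.unusedSectionVars false
set_option backward.isDefEq.respectTransparency false
set_option backward.isDefEq.respectTransparency.types false
set_option maxHeartbeats 800000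

universe u

open CategoryTheory CategoryTheory.Limits AlgebraicGeometry TopologicalSpace Opposite

noncomputable section

namespace Groth.Agent.R1Push

theorem bijective_mapA_of_isIso {Z : Scheme.{u}} {A : Type u} [CommRing A] (ρ : A →+* Coh.Γtop Z) {N N' : Z.Modules}
    (φ : N ⟶ N') [IsIso φ] (p : ℕ) : Function.Bijective (LerayOneDegree.mapA ρ φ p) := by
  have h : ∀ {P Q : Z.Modules} (s : P ⟶ Q) (t : Q ⟶ P) (x : Coh.HH Z P p), s ≫ t = 𝟙 P →
      Sheaf.H.map ((SheafOfModules.toSheaf Z.ringCatSheaf).map t) p
        (Sheaf.H.map ((SheafOfModules.toSheaf Z.ringCatSheaf).map s) p x) = x := fun s t x he => by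
    rw [← Sheaf.H.map_comp_apply, ← Functor.map_comp, he, CategoryTheory.Functor.map_id, Sheaf.H.map_id_apply]
  exact Function.bijective_iff_has_inverse.2 ⟨fun y => Sheaf.H.map ((SheafOfModules.toSheaf Z.ringCatSheaf).map (inv φ)) p y,
    fun x => h φ (inv φ) x (IsIso.hom_inv_id φ), fun y => h (inv φ) φ y (IsIso.inv_hom_id φ)⟩

section Surface

variable {A : Type u} [CommRing A] {X X' : Scheme.{u}} [IsIntegral X] [IsIntegral X'] [IsNoetherian X]
  (hn : Pi1.IsNormalScheme X) (hd : ∀ x : X, ringKrullDim (X.presheaf.stalk x) ≤ 2)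
  (g : X' ⟶ X) [IsProper g] (hbir : IsIso (g.stalkMap (genericPoint X')))
include hn hd hbir

/-- The first direct image is supported in finitely many closed points and globally generated. -/
theorem support_Rpush_one [HasInjectiveResolutions X'.Modules] :
    Curv2.IsGloballyGenerated ((Coh.Rpush g 1).obj (Coh.structureModule X')) ∧
      {x : X | Nontrivial (((Coh.Rpush g 1).obj (Coh.structureModule X')).presheaf.stalk x)}.Finite ∧
      (∀ x : X, Nontrivial (((Coh.Rpush g 1).obj (Coh.structureModule X')).presheaf.stalk x) → IsClosed ({x} : Set X)) := by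
  obtain ⟨hfin, hpt⟩ := finite_bad hn hd g hbir
  let S := g '' {w | ¬ IsIso (g.stalkMap w)}
  have hS : IsClosed S := by
    rw [← Set.biUnion_of_singleton S]
    exact hfin.isClosed_biUnion hpt
  let U : X.Opens := ⟨Sᶜ, hS.isOpen_compl⟩
  have h0 : ∀ x ∉ S, Subsingleton (((Coh.Rpush g 1).obj (Coh.structureModule X')).presheaf.stalk x) := fun x hx => by
    haveI : IsIso (g ∣_ U) := Sol.isIso_restrict_of_stalk g hbir U ⟨x, hx⟩
      fun w hw => not_not.1 fun h => hw ⟨w, h, rfl⟩
    exact subsingleton_stalk_of_isIso g U (x := x) hx 0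
  have hsub : {x : X | Nontrivial (((Coh.Rpush g 1).obj (Coh.structureModule X')).presheaf.stalk x)} ⊆ S := fun x hx => by
    by_contra hxS
    haveI := h0 x hxS
    exact not_subsingleton_iff_nontrivial.2 hx inferInstance
  exact ⟨isGloballyGenerated_of_finite_support _ S hfin hpt h0, hfin.subset hsub, fun x hx => hpt x (hsub hx)⟩

end Surface

/-- Lengths along a modification with pushforward of functions the functions. -/
theorem length_h1 {A : Type u} [CommRing A] {W Z : Scheme.{u}} [W.Over (Spec (CommRingCat.of A))]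
    [Z.Over (Spec (CommRingCat.of A))] (g : W ⟶ Z) [HasInjectiveResolutions W.Modules]
    (hg : g ≫ (Z ↘ Spec (CommRingCat.of A)) = W ↘ Spec (CommRingCat.of A))
    (hO : ∀ U : Z.Opens, Function.Bijective (g.app U))
    (h2 : Subsingleton (Coh.HH Z (Coh.structureModule Z) 2)) :
    Module.length A (Coh.HH W (Coh.structureModule W) 1) =
      Module.length A (Coh.HH Z (Coh.structureModule Z) 1) +
        Module.length A (Coh.HH Z ((Coh.Rpush g 1).obj (Coh.structureModule W)) 0) := by
  haveI : IsIso (ClSub.unitToPush g) := Scheme.Modules.Hom.isIso_iff_isIso_app.2 fun U => by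
    rw [ConcreteCategory.isIso_iff_bijective]
    exact hO U
  let ρ := Coh.toGlobal (Z ↘ Spec (CommRingCat.of A))
  have hρ : g.appTop.hom.comp ρ = Coh.toGlobal (W ↘ Spec (CommRingCat.of A)) := by
    rw [← hg]
    show _ = ((g ≫ (Z ↘ Spec (CommRingCat.of A))).appTop).hom.comp _
    rw [Scheme.Hom.comp_appTop, CommRingCat.hom_comp, RingHom.comp_assoc]
    rfl
  have key := length_add g ρ (Coh.structureModule W)
    (QCoh.subsingleton_HH_of_iso (asIso (ClSub.unitToPush g)) 2 h2)
  rw [hρ] at key
  refine key.trans (congrArg (· + _) ?_)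
  letI := QCoh.modHH ρ (Coh.structureModule Z) 1
  letI := QCoh.modHH ρ ((Scheme.Modules.pushforward g).obj (Coh.structureModule W)) 1
  exact ((LinearEquiv.ofBijective (LerayOneDegree.mapA ρ (ClSub.unitToPush g) 1)
    (bijective_mapA_of_isIso ρ (ClSub.unitToPush g) 1)).length_eq).symm

end Groth.Agent.R1Push
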