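import Mathlib
import Groth.Agent.R1Push.Main
import Groth.Agent.RatUp.Rational
import Groth.Agent.RatUp.Extend
import Groth.Agent.RatSing.BlowNormal
import Groth.Agent.KFlatLib.Scheme.LocalDevissage
import Groth.Agent.RegRes.Global
import Groth.Agent.S8910
import Groth.Agent.S9708
import Groth.Agent.S4452

/-!
# Modifications with the largest first cohomology have rational singularities
-/

set_option autoImplicit false
set_option linter.style.haveILetI false
set_option linter.unusedSectionVars false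
set_option backward.isDefEq.respectTransparency false
set_option backward.isDefEq.respectTransparency.types false
set_option maxHeartbeats 800000

universe u

open CategoryTheory CategoryTheory.Limits AlgebraicGeometry TopologicalSpace IsLocalRing Filter
open scoped Topology
open Groth.Agent.NormSeq (Model locRing Nice)
open Groth.Agent.RatUp
open Groth.Agent.Sol

noncomputable section

namespace Groth.Agent.R1Push

/-- Sequences of normalised blow-ups over nice schemes are projective. -/
theorem seq_nice {Y Z₀ : Scheme.{u}} {r : Y ⟶ Z₀} (hr : Resolve.IsNormPtBlowupSeq r) :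
    ∀ [IsIntegral Z₀], Nice Z₀ → ∃ _ : IsIntegral Y, Nice Y ∧ IsIso (r.stalkMap (genericPoint Y)) ∧
      RelProj.IsProjective r := by
  induction hr with
  | @iso Y' X' e =>
    intro _ hX
    haveI := hX.noeth
    haveI : Nonempty Y' := ⟨e.inv (genericPoint X')⟩
    haveI : IsIntegral Y' := isIntegral_of_isOpenImmersion e.hom
    haveI : IsLocallyNoetherian Y' := LocallyOfFiniteType.isLocallyNoetherian e.hom
    haveI : CompactSpace Y' := QuasiCompact.compactSpace_of_compactSpace e.hom
    refine ⟨inferInstance, ⟨inferInstance, {}, fun y => ?_, hX.fin_comp e.hom inferInstance,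
      fun y => (NormSeq.dim_le e.hom inferInstance y).trans (hX.dim _)⟩, inferInstance, S4452.result e.hom⟩
    have h1 := hX.normal (e.hom y)
    haveI := h1.1
    haveI := h1.2
    exact ⟨inferInstance, IsIntegrallyClosed.of_equiv (asIso (e.hom.stalkMap y)).commRingCatIsoToRingEquiv⟩
  | @step Z' Z X' _ _ _ b r z hz hb hr ih =>
    intro _ hX
    obtain ⟨hZi, -, -⟩ := RegRes.seq_birational hr
    obtain ⟨_, hZ, hrbir, hrproj⟩ := @ih inferInstance hX
    haveI := hZ.noeth
    haveI := hX.noeth
    haveI := PointBlow.isProper_point hz hb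
    obtain ⟨_, hbgen, hbbir⟩ := (Lib.BlowUpInt.isEmpty_or_birational hb).resolve_left
      fun h => h.false (genericPoint Z')
    haveI : IsFinite (Curv2.normalizationι Z') := hZ.fin Z' b hbbir
    haveI := Synt29.isIntegral_normalization Z'
    obtain ⟨hνgen, hνbir, -⟩ := Synt29.normalization_generic Z'
    haveI : IsLocallyNoetherian Z' := LocallyOfFiniteType.isLocallyNoetherian b
    have hbir : IsIso ((Curv2.normalizationι Z' ≫ b).stalkMap (genericPoint (Curv2.normalization Z'))) :=
      NormSeq.isIso_stalkMap_comp (Curv2.normalizationι Z') b hνbir hbbir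
    haveI : IsLocallyNoetherian (Curv2.normalization Z') :=
      LocallyOfFiniteType.isLocallyNoetherian (Curv2.normalizationι Z' ≫ b)
    haveI : CompactSpace (Curv2.normalization Z') :=
      QuasiCompact.compactSpace_of_compactSpace (Curv2.normalizationι Z' ≫ b)
    refine ⟨inferInstance, ⟨inferInstance, {}, NormCurve.isNormalScheme_normalization Z',
      hZ.fin_comp (Curv2.normalizationι Z' ≫ b) hbir,
      fun y => (NormSeq.dim_le (Curv2.normalizationι Z' ≫ b) hbir y).trans (hZ.dim _)⟩, ?_, ?_⟩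
    · rw [← Category.assoc]
      exact NormSeq.isIso_stalkMap_comp (Curv2.normalizationι Z' ≫ b) r hbir hrbir
    · rw [← Category.assoc]
      exact S9708.result (Curv2.normalizationι Z' ≫ b) r (S9708.result (Curv2.normalizationι Z') b (S4452.result _)
        (S8910.result (PointBlow.pt hz) (fun U => by
          haveI : IsNoetherianRing Γ(Z, U.1) := IsLocallyNoetherian.component_noetherian U
          exact IsNoetherian.noetherian _) b hb)) hrproj

section RatVal

variable {R : CommRingCat.{u}} [IsDomain R]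

local notation "KK" => Scheme.functionField (Spec R)

/-- No first direct images on modifications make the local rings solve valuation data. -/
theorem ratVal_of_vanishing (X : Model (Spec R)) (hX : Nice X.Z) [IsProper X.G]
    (hvan : ∀ (Y : Scheme.{u}) [IsIntegral Y] (g : Y ⟶ X.Z) [IsProper g], IsIso (g.stalkMap (genericPoint Y)) →
      Nice Y → ∀ D : X.Z.Opens, IsAffineOpen D →
        Subsingleton (Coh.HH (g ⁻¹ᵁ D : Scheme.{u}) (Coh.structureModule (g ⁻¹ᵁ D : Scheme.{u})) 1))
    (x : X.Z) : RatVal (locRing X x) := by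
  classical
  intro n E a hcov hag
  haveI := hX.noeth
  obtain ⟨Y, h, hYi, hgen, hbir, hY, hP, hdec'⟩ := exists_dec X hX (Finset.univ.biUnion E)
  haveI := hYi
  haveI := hP
  haveI := hY.noeth
  have hdec : ∀ k, ∀ e ∈ E k, Dec (X.comp h hgen hbir) e := fun k e he =>
    hdec' e (Finset.mem_biUnion.2 ⟨k, Finset.mem_univ k, he⟩)
  let M := X.comp h hgen hbir
  haveI : IsProper M.G := inferInstanceAs (IsProper (h ≫ X.G))
  haveI : IsNoetherian M.Z := hY.noeth
  let T : Fin n → Set M.Z := fun k => {w | ∀ e ∈ E k, e ∈ locRing M w}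
  have hTo : ∀ k, IsOpen (T k) := fun k => by
    have e1 : T k = ⋂ e ∈ E k, {w | e ∈ locRing M w} := by
      ext w
      simp only [T, Set.mem_iInter, Set.mem_setOf_eq]
    rw [e1]
    exact isOpen_biInter_finset fun e _ => isOpen_mem M e
  have hFB : ∀ w, h w ⤳ x → locRing X x ≤ locRing M w := fun w hw =>
    (locRing_mono X hw).trans (locRing_comp_le h hgen hbir w)
  have hFT : ∀ w, h w ⤳ x → ∃ k, w ∈ T k := fun w hw => by
    obtain ⟨U, hU⟩ := exists_valuation M w
    obtain ⟨k, hk⟩ := hcov U ((hFB w hw).trans hU.1)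
    exact ⟨k, fun e he => hU.mem (hdec k e he) (hk e he)⟩
  have hFG : ∀ w, h w ⤳ x → ∀ k l, w ∈ T k → w ∈ T l → a k - a l ∈ locRing M w := fun w hw k l hk hl =>
    mem_locRing_of_forall M w (hY.normal w).2 _ fun U hU =>
      hag U ((hFB w hw).trans hU) k l (fun e he => hU (hk e he)) (fun e he => hU (hl e he))
  let S : Fin n → Fin n → Set M.Z := fun k l => {w | a k - a l ∈ locRing M w}ᶜ ∩ (T k ∩ T l)
  let Z₁ : Set X.Z := h '' (⋂ k, (T k)ᶜ)
  let Z₂ : Set X.Z := ⋃ k, ⋃ l, h '' closure (S k l)
  have hZc : IsClosed (Z₁ ∪ Z₂) :=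
    (h.isClosedMap _ (isClosed_iInter fun k => (hTo k).isClosed_compl)).union
      (isClosed_iUnion_of_finite fun k => isClosed_iUnion_of_finite fun l => h.isClosedMap _ isClosed_closure)
  have hxZ : x ∉ Z₁ ∪ Z₂ := by
    rintro (⟨w, hw, hwx⟩ | hz2)
    · obtain ⟨k, hk⟩ := hFT w (hwx ▸ specializes_rfl)
      exact Set.mem_iInter.1 hw k hk
    · obtain ⟨k, hk⟩ := Set.mem_iUnion.1 hz2
      obtain ⟨l, w, hw, hwx⟩ := Set.mem_iUnion.1 hk
      obtain ⟨ξ, ⟨hξ, hξT⟩, hξw⟩ := exists_specializes (isOpen_mem M (a k - a l)).isClosed_compl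
        ((hTo k).inter (hTo l)) hw
      exact hξ (hFG ξ (hwx ▸ hξw.map h.continuous) k l hξT.1 hξT.2)
  obtain ⟨D, hD, hxD, hDle⟩ := exists_isAffineOpen_mem_and_subset (x := x)
    (U := ⟨(Z₁ ∪ Z₂)ᶜ, hZc.isOpen_compl⟩) hxZ
  have hTcov : ∀ w, h w ∈ D → ∃ k, w ∈ T k := fun w hw => by
    by_contra hno
    push Not at hno
    exact hDle hw (Or.inl ⟨w, Set.mem_iInter.2 hno, rfl⟩)
  have hTag : ∀ w, h w ∈ D → ∀ k l, w ∈ T k → w ∈ T l → a k - a l ∈ locRing M w := fun w hw k l hk hl => by
    by_contra hno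
    exact hDle hw (Or.inr (Set.mem_iUnion.2 ⟨k, Set.mem_iUnion.2 ⟨l, w, subset_closure ⟨hno, hk, hl⟩, rfl⟩⟩))
  let g₁ : M.Z → KK := fun w => if hk : ∃ k, w ∈ T k then a hk.choose else 0
  have hg₁ : ∀ w, h w ∈ D → ∀ k, w ∈ T k → a k - g₁ w ∈ locRing M w := fun w hw k hk => by
    have hex : ∃ k, w ∈ T k := ⟨k, hk⟩
    simp only [g₁, dif_pos hex]
    exact hTag w hw k _ hk hex.choose_spec
  -- the open piece over the neighbourhood
  let U : Y.Opens := h ⁻¹ᵁ D
  have hgU : genericPoint Y ∈ U := show h (genericPoint Y) ∈ D by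
    rw [hgen]; exact (genericPoint_specializes x).mem_open D.isOpen hxD
  haveI : Nonempty U := ⟨⟨_, hgU⟩⟩
  haveI : IsIntegral (U : Scheme.{u}) := isIntegral_of_isOpenImmersion U.ι
  have hUgen : U.ι (genericPoint (U : Scheme.{u})) = genericPoint M.Z := genericPoint_eq_of_isOpenImmersion U.ι
  haveI hUiso : ∀ u : (U : Scheme.{u}), IsIso (U.ι.stalkMap u) := fun u => inferInstance
  let N := M.comp U.ι hUgen (hUiso _)
  have hloc : ∀ u : (U : Scheme.{u}), locRing M (U.ι u) = locRing N u := fun u =>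
    (locRing_comp_eq (X := M) U.ι hUgen (hUiso _) u).symm
  have hsol : Sol (locRing N) := (sol_locRing_iff N).2 (sol_of_hh (hvan Y h hbir hY D hD))
  obtain ⟨h₀, hh₀⟩ := hsol (fun u => g₁ (U.ι u)) fun u => by
    have hu : h (U.ι u) ∈ D := u.2
    obtain ⟨k, hk⟩ := hTcov _ hu
    have hev : ∀ᶠ y in 𝓝 (U.ι u), g₁ (U.ι u) - g₁ y ∈ locRing M y := by
      filter_upwards [(hTo k).mem_nhds hk, (D.isOpen.preimage h.continuous).mem_nhds hu,
        openMem_locRing M (U.ι u) _ (hg₁ _ hu k hk)] with y hy hyD hy'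
      have := sub_mem (hg₁ y hyD k hy) hy'
      rwa [sub_sub_sub_cancel_left] at this
    exact ((U.ι.continuous.tendsto u).eventually hev).mono fun y hy => hloc y ▸ hy
  refine ⟨h₀, fun V hV k hk => ?_⟩
  obtain ⟨w, hw⟩ := exists_ctr M V fun r => hV (RatSing.map_mem_locRing X x r)
  obtain ⟨z', hz', hz'c⟩ := exists_ctr_specializes X V hV
  have hwz : h w ⤳ x := by rw [Ctr.unique X (Ctr.map_hom h hgen hbir hw) hz'c]; exact hz'
  have hwD : h w ∈ D := hwz.mem_open D.isOpen hxD
  have hwT : w ∈ T k := fun e he => hw.mem (hdec k e he) (hk e he)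
  have h1 : h₀ - g₁ w ∈ locRing M w := by
    have := hh₀ ⟨w, hwD⟩
    rwa [← hloc] at this
  have h2 := sub_mem h1 (hg₁ w hwD k hwT)
  rw [sub_sub_sub_cancel_right] at h2
  exact hw.1 h2

/-- Stalks with solvable valuation data are rational singularities. -/
theorem isRationalSing_stalk_of_ratVal (X : Model (Spec R)) (z : X.Z) (h : RatVal (locRing X z)) :
    Curv2.IsRationalSing (X.Z.presheaf.stalk z) := by
  let R' := X.Z.presheaf.stalk z
  haveI : IsDomain R' := inferInstance
  letI : Algebra R' KK := (X.toKHom z).hom.toAlgebra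
  haveI : FaithfulSMul R' KK := (faithfulSMul_iff_algebraMap_injective _ _).2 (X.toK_injective z)
  haveI : IsFractionRing R' KK := by
    refine IsFractionRing.of_field _ _ fun y => ?_
    obtain ⟨a, a', -, h⟩ := IsFractionRing.div_surjective (A := R) y
    refine ⟨RatSing.strStalk X z a, RatSing.strStalk X z a', ?_⟩
    show y = X.toKHom z _ / X.toKHom z _
    rw [RatSing.toK_strStalk, RatSing.toK_strStalk]
    exact h.symm
  let φ := IsLocalization.algEquiv (nonZeroDivisors R') KK (Spec R').functionField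
  refine isRationalSing_of_ratVal (R := R') (h.map φ.toRingEquiv fun x => ?_)
  constructor
  · rintro ⟨t, rfl⟩
    exact ⟨t, (φ.commutes t).symm⟩
  · rintro ⟨t, ht⟩
    exact ⟨t, φ.injective ((φ.commutes t).trans ht)⟩

end RatVal

end Groth.Agent.R1Push
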