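import Mathlib
import Groth.Agent.R1Push.Maximal
import Groth.Agent.NormalLib.LocalExt
import Groth.Agent.KFlatLib.Scheme.AffineSections
import Groth.Agent.NormSeq.Main

/-!
# Reduction to rational singularities
-/

set_option autoImplicit false
set_option linter.style.haveILetI false
set_option linter.unusedSectionVars false
set_option backward.isDefEq.respectTransparency false
set_option backward.isDefEq.respectTransparency.types false
set_option maxHeartbeats 800000

universe u

open CategoryTheory CategoryTheory.Limits AlgebraicGeometry TopologicalSpace IsLocalRing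
open Groth.Agent.NormSeq (Model locRing Nice)

noncomputable section

namespace Groth.Agent.R1Push

variable {R : CommRingCat.{u}} [IsDomain R]

theorem bijective_app {X Y : Scheme.{u}} [IsIntegral Y] [IsIntegral X] (hX : Nice X) (g : Y ⟶ X) [IsProper g]
    (hbir : IsIso (g.stalkMap (genericPoint Y))) (W : X.Opens) : Function.Bijective (g.app W) := by
  obtain ⟨U, hU, hi⟩ := RatUp.exists_isIso_restrict hX g hbir
  haveI := hi
  exact H26.Contract.bijective_app g hU hX.normal W

theorem subsingleton_two (hR : Nice (Spec R)) (hdim : ringKrullDim R ≤ 2) (M : Model (Spec R)) [IsProper M.G] :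
    Subsingleton (Coh.HH M.Z (Coh.structureModule M.Z) 2) := by
  obtain ⟨U, hU, hi⟩ := RatUp.exists_isIso_restrict hR M.G M.bir
  haveI := hi
  haveI : IsNoetherianRing R := by
    haveI := hR.noeth
    haveI : IsNoetherianRing Γ(Spec R, ⊤) := IsLocallyNoetherian.component_noetherian ⟨⊤, isAffineOpen_top (Spec R)⟩
    exact isNoetherianRing_of_ringEquiv _ (Scheme.ΓSpecIso R).commRingCatIsoToRingEquiv
  exact RelPC17.HighVanish.subsingleton_HH_of_fibre_dim M.G 1
    (RelPC17.BirFibre.fibre_dim_le_one (Y := Spec R) M.G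
      (RelPC17.BirFibre.dim_spec_le R 2 (by exact_mod_cast hdim)) U hU)
    QCoh.isQCoh_structureModule 2 (by omega)

/-- The length of the first cohomology of a model. -/
def h1 (M : Model (Spec R)) : ℕ∞ :=
  letI : M.Z.Over (Spec (CommRingCat.of R)) := ⟨M.G⟩
  Module.length R (Coh.HH M.Z (Coh.structureModule M.Z) 1)

theorem h1_comp (hR : Nice (Spec R)) (hdim : ringKrullDim R ≤ 2) (M : Model (Spec R)) (hM : Nice M.Z) [IsProper M.G]
    {Y : Scheme.{u}} [IsIntegral Y] (g : Y ⟶ M.Z) [IsProper g] (hgen : g (genericPoint Y) = genericPoint M.Z)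
    (hbir : IsIso (g.stalkMap (genericPoint Y))) :
    letI : M.Z.Over (Spec (CommRingCat.of R)) := ⟨M.G⟩
    h1 (M.comp g hgen hbir) = h1 M + Module.length R (Coh.HH M.Z ((Coh.Rpush g 1).obj (Coh.structureModule Y)) 0) := by
  letI : M.Z.Over (Spec (CommRingCat.of R)) := ⟨M.G⟩
  letI : Y.Over (Spec (CommRingCat.of R)) := ⟨g ≫ M.G⟩
  exact length_h1 (A := R) g rfl (bijective_app hM g hbir) (subsingleton_two hR hdim M)

/-- A model with the largest `h1` has no first direct images from above. -/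
theorem vanishing_of_max (hR : Nice (Spec R)) (hdim : ringKrullDim R ≤ 2) (M : Model (Spec R)) (hM : Nice M.Z)
    [IsProper M.G] (hfin : h1 M ≠ ⊤)
    (hmax : ∀ (N : Model (Spec R)), IsProper N.G → Pi1.IsNormalScheme N.Z → h1 N ≤ h1 M) (Y : Scheme.{u}) [IsIntegral Y]
    (g : Y ⟶ M.Z) [IsProper g] (hbir : IsIso (g.stalkMap (genericPoint Y))) (hY : Nice Y) (D : M.Z.Opens)
    (hD : IsAffineOpen D) :
    Subsingleton (Coh.HH (g ⁻¹ᵁ D : Scheme.{u}) (Coh.structureModule (g ⁻¹ᵁ D : Scheme.{u})) 1) := by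
  haveI := hM.noeth
  have hgen := SurfSeq.map_generic g hbir
  letI : M.Z.Over (Spec (CommRingCat.of R)) := ⟨M.G⟩
  have h := hmax (M.comp g hgen hbir) (inferInstanceAs (IsProper (g ≫ M.G))) hY.normal
  rw [h1_comp hR hdim M hM g hgen hbir] at h
  have h0 : Module.length R (Coh.HH M.Z ((Coh.Rpush g 1).obj (Coh.structureModule Y)) 0) = 0 :=
    nonpos_iff_eq_zero.1 ((ENat.add_le_add_iff_left hfin).1 (h.trans_eq (add_zero _).symm))
  haveI : Subsingleton (Coh.HH M.Z ((Coh.Rpush g 1).obj (Coh.structureModule Y)) 0) := Module.length_eq_zero_iff.1 h0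
  obtain ⟨hgg, -, -⟩ := support_Rpush_one hM.normal hM.dim g hbir
  have hz : IsZero ((Coh.Rpush g 1).obj (Coh.structureModule Y)) := by
    obtain ⟨κ, e, he⟩ := hgg
    haveI : Subsingleton Γ((Coh.Rpush g 1).obj (Coh.structureModule Y), ⊤) :=
      (LerayCorner.subsingleton_HH_zero_iff _).1 inferInstance
    refine CurveCohLib.isZero_of_subsingleton_stalks fun x => ?_
    obtain ⟨hfin', hpt⟩ := finite_bad hM.normal hM.dim g hbir
    let S := g '' {w | ¬ IsIso (g.stalkMap w)}
    have hS : IsClosed S := by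
      rw [← Set.biUnion_of_singleton S]; exact hfin'.isClosed_biUnion hpt
    exact subsingleton_stalk_of_sections _ S hfin' hpt (fun x hx => by
      haveI : IsIso (g ∣_ (⟨Sᶜ, hS.isOpen_compl⟩ : M.Z.Opens)) := Sol.isIso_restrict_of_stalk g hbir _ ⟨x, hx⟩
        fun w hw => not_not.1 fun h => hw ⟨w, h, rfl⟩
      exact subsingleton_stalk_of_isIso g (⟨Sᶜ, hS.isOpen_compl⟩ : M.Z.Opens) (x := x) hx 0) x
  obtain ⟨e⟩ := QCoh.nonempty_sections_HH (f := g) (QCoh.isQCoh_structureModule (X := Y)) hD 1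
  haveI : Subsingleton Γ((Coh.Rpush g 1).obj (Coh.structureModule Y), D) := subsingleton_of_forall_eq 0 fun s =>
    congr(($((IsZero.iff_id_eq_zero _).1 hz)).app D s)
  exact QCoh.subsingleton_HH_of_iso (KFlatLib.restrictStructureIso (g ⁻¹ᵁ D).ι) 1 e.symm.toEquiv.subsingleton

/-- Some normal modification has only rational singularities. -/
theorem exists_rational (hR : Nice (Spec R)) (hdim : ringKrullDim R ≤ 2) (N : ℕ)
    (hN : ∀ M : Model (Spec R), IsProper M.G → Pi1.IsNormalScheme M.Z → h1 M ≤ (N : ℕ∞)) :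
    ∃ M : Model (Spec R), IsProper M.G ∧ Nice M.Z ∧ RelProj.IsProjective M.G ∧
      ∀ x : M.Z, Curv2.IsRationalSing (M.Z.presheaf.stalk x) := by
  classical
  haveI := hR.noeth
  let M₁ : Model (Spec R) := { Z := Spec R, G := 𝟙 _, gen := rfl, bir := inferInstance }
  let P : ℕ → Prop := fun n => ∃ M : Model (Spec R), IsProper M.G ∧ Pi1.IsNormalScheme M.Z ∧ h1 M = n
  have hfin : ∀ M : Model (Spec R), IsProper M.G → Pi1.IsNormalScheme M.Z → ∃ n ≤ N, h1 M = n := fun M hP hn => by
    obtain ⟨n, hn'⟩ := ENat.ne_top_iff_exists.1 (ne_top_of_le_ne_top (ENat.natCast_ne_top N) (hN M hP hn))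
    exact ⟨n, Nat.cast_le.1 (hn'.symm ▸ hN M hP hn), hn'.symm⟩
  obtain ⟨n₁, hn₁, hM₁⟩ := hfin M₁ (inferInstanceAs (IsProper (𝟙 _))) hR.normal
  obtain ⟨M₀, hP₀, hn₀, hL⟩ := Nat.findGreatest_spec (P := P) hn₁ ⟨M₁, inferInstanceAs (IsProper (𝟙 _)), hR.normal, hM₁⟩
  have hmax₀ : ∀ M : Model (Spec R), IsProper M.G → Pi1.IsNormalScheme M.Z → h1 M ≤ h1 M₀ := fun M hP hn => by
    obtain ⟨n, hnN, hM⟩ := hfin M hP hn
    rw [hM, hL]
    exact Nat.cast_le.2 (Nat.le_findGreatest hnN ⟨M, hP, hn, hM⟩)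
  haveI := hP₀
  obtain ⟨M, t, hseq, ht, htg⟩ := NormSeq.exists_dominating M₀.G M₀.genHom M₀.genHom_G hR
  obtain ⟨-, hM, hMbir, hproj⟩ := seq_nice hseq hR
  haveI : IsProper M.G := (ProjCl17.isQuasiProjective_and_isProper hproj).2
  haveI : IsProper (t ≫ M₀.G) := ht.symm ▸ ‹IsProper M.G›
  haveI : IsProper t := IsProper.of_comp t M₀.G
  have hgen : t (genericPoint M.Z) = genericPoint M₀.Z := by
    let p : Spec (Spec R).functionField := closedPoint (Spec R).functionField
    rw [← M.genHom_apply p, ← Scheme.Hom.comp_apply, htg]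
    exact M₀.genHom_apply p
  have htbir : IsIso (t.stalkMap (genericPoint M.Z)) :=
    RegRes.isIso_stalkMap_left t M₀.G _ (by rw [ht]; exact M.bir) (by rw [hgen]; exact M₀.bir)
  have hM₀ : Nice M₀.Z := by
    haveI : IsLocallyNoetherian M₀.Z := LocallyOfFiniteType.isLocallyNoetherian M₀.G
    haveI : CompactSpace M₀.Z := QuasiCompact.compactSpace_of_compactSpace M₀.G
    exact ⟨inferInstance, {}, hn₀, hR.fin_comp M₀.G M₀.bir, fun z => (NormSeq.dim_le M₀.G M₀.bir z).trans (hR.dim _)⟩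
  have hle : h1 M₀ ≤ h1 M := by
    letI : M₀.Z.Over (Spec (CommRingCat.of R)) := ⟨M₀.G⟩
    have h := h1_comp hR hdim M₀ hM₀ t hgen htbir
    have e : h1 (M₀.comp t hgen htbir) = h1 M := by
      have key : ∀ (G' : M.Z ⟶ Spec R) (p : G' (genericPoint M.Z) = genericPoint (Spec R))
          (q : IsIso (G'.stalkMap (genericPoint M.Z))), G' = M.G →
          h1 { Z := M.Z, G := G', gen := p, bir := q } = h1 M := by
        rintro G' p q rfl; rfl
      exact key _ _ _ ht
    rw [e] at h
    rw [h]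
    exact le_self_add
  have hMfin : h1 M ≠ ⊤ := ne_top_of_le_ne_top (ENat.natCast_ne_top N) (hN M inferInstance hM.normal)
  refine ⟨M, inferInstance, hM, hproj, fun x => isRationalSing_stalk_of_ratVal M x
    (ratVal_of_vanishing M hM (fun Y _ g _ hbir hY D hD =>
      vanishing_of_max hR hdim M hM hMfin (fun N hP hn => (hmax₀ N hP hn).trans hle) Y g hbir hY D hD) x)⟩

end Groth.Agent.R1Push
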